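import Mathlib
import Groth.Agent.Lib.Helper7.InjFib.Basic
import Groth.Agent.Lib.Helper8.GeomAlgClosed

set_option linter.style.haveILetI false
set_option linter.unusedVariables false
set_option linter.unusedSectionVars false
set_option autoImplicit false
set_option backward.isDefEq.respectTransparency.types false
set_option synthInstance.maxHeartbeats 400000
set_option maxHeartbeats 1600000

universe u

/-! helper7: an endomorphism of a free module which is injective on every fibre is injective
modulo every ideal; application to elements of `S ⊗[k] A` with a unit coefficient, for `A` a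
domain over an algebraically closed field `k`. -/

open TensorProduct

namespace Groth.Agent.Helper7.UnitCoef

open Groth.Agent.Helper1.LocalCrit

section AL

variable {S : Type u} [CommRing S]

/-- a nonzero functional on `(J ⊔ c) / J` with values in a residue field, `c` finitely generated -/
theorem exists_functional (J c : Ideal S) (hc : c.FG) (hcJ : ¬ c ≤ J) :
    ∃ (K : Type u) (_ : Field K) (_ : Algebra S K) (ℓ : ↥(J ⊔ c) →ₗ[S] K),
      (∀ y : ↥(J ⊔ c), (y : S) ∈ J → ℓ y = 0) ∧ ∃ y, ℓ y ≠ 0 := by
  classical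
  set d : Ideal S := J ⊔ c with hd
  let J' : Submodule S d := Submodule.comap d.subtype J
  haveI hfin : Module.Finite S (↥d ⧸ J') := by
    haveI : Module.Finite S c := Module.Finite.iff_fg.mpr hc
    let g : c →ₗ[S] (↥d ⧸ J') := J'.mkQ ∘ₗ Submodule.inclusion (le_sup_right : c ≤ d)
    refine Module.Finite.of_surjective g ?_
    intro q
    obtain ⟨⟨y, hy⟩, rfl⟩ := J'.mkQ_surjective q
    obtain ⟨j, hj, c', hc', rfl⟩ := Submodule.mem_sup.mp hy
    refine ⟨⟨c', hc'⟩, ?_⟩
    show J'.mkQ _ = J'.mkQ _
    rw [← sub_eq_zero, ← map_sub, Submodule.mkQ_apply, Submodule.Quotient.mk_eq_zero]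
    show ((_ - _ : d) : S) ∈ J
    rw [Submodule.coe_sub]
    show c' - (j + c') ∈ J
    have : c' - (j + c') = -j := by ring
    rw [this]
    exact J.neg_mem hj
  haveI hnt : Nontrivial (↥d ⧸ J') := by
    obtain ⟨y, hyc, hyJ⟩ := Set.not_subset.mp hcJ
    refine ⟨⟨J'.mkQ ⟨y, Ideal.mem_sup_right hyc⟩, 0, ?_⟩⟩
    rw [Submodule.mkQ_apply, Ne, Submodule.Quotient.mk_eq_zero]
    exact hyJ
  obtain ⟨p, hp⟩ := Module.nonempty_support_of_nontrivial (R := S) (M := ↥d ⧸ J')
  rw [Module.mem_support_iff_nontrivial_residueField_tensorProduct] at hp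
  haveI := hp
  obtain ⟨v, hv⟩ := exists_ne (0 : p.asIdeal.ResidueField ⊗[S] (↥d ⧸ J'))
  obtain ⟨φ, hφ⟩ := Module.Projective.exists_dual_ne_zero p.asIdeal.ResidueField hv
  refine ⟨p.asIdeal.ResidueField, inferInstance, inferInstance,
    (φ.restrictScalars S) ∘ₗ (TensorProduct.mk S p.asIdeal.ResidueField (↥d ⧸ J') 1) ∘ₗ J'.mkQ,
    ?_, ?_⟩
  · intro y hy
    have h0 : J'.mkQ y = 0 := by
      rw [Submodule.mkQ_apply, Submodule.Quotient.mk_eq_zero]
      exact hy
    simp only [LinearMap.comp_apply, h0, map_zero]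
  · by_contra hall
    have hall' : ∀ y : ↥d, φ ((1 : p.asIdeal.ResidueField) ⊗ₜ[S] (J'.mkQ y)) = 0 := by
      intro y
      by_contra hy
      exact hall ⟨y, hy⟩
    have hzero : ∀ w : p.asIdeal.ResidueField ⊗[S] (↥d ⧸ J'), φ w = 0 := by
      intro w
      induction w using TensorProduct.induction_on with
      | zero => simp
      | tmul a q =>
        obtain ⟨y, rfl⟩ := J'.mkQ_surjective q
        have e : a ⊗ₜ[S] (J'.mkQ y) = a • ((1 : p.asIdeal.ResidueField) ⊗ₜ[S] (J'.mkQ y)) := by
          rw [TensorProduct.smul_tmul', smul_eq_mul, mul_one]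
        rw [e, map_smul, hall' y, smul_zero]
      | add a b ha hb => rw [map_add, ha, hb, add_zero]
    exact hφ (hzero v)

variable {M : Type u} [AddCommGroup M] [Module S M]

theorem lid_lTensor (u : M →ₗ[S] M) (w : S ⊗[S] M) :
    u (TensorProduct.lid S M w) = TensorProduct.lid S M (u.lTensor S w) := by
  induction w using TensorProduct.induction_on with
  | zero => simp
  | tmul r n => simp
  | add a b ha hb => simp only [map_add, ha, hb]

theorem coe_rid_lTensor (d : Ideal S) (χ : M →ₗ[S] S) (w : d ⊗[S] M) :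
    ((TensorProduct.rid S d (χ.lTensor d w) : d) : S) =
      χ (TensorProduct.lid S M (d.subtype.rTensor M w)) := by
  induction w using TensorProduct.induction_on with
  | zero => simp
  | tmul a m =>
    simp only [LinearMap.lTensor_tmul, TensorProduct.rid_tmul, LinearMap.rTensor_tmul,
      Submodule.subtype_apply, TensorProduct.lid_tmul, map_smul, smul_eq_mul,
      Submodule.coe_smul_of_tower]
    ring
  | add a b ha hb => simp only [map_add, Submodule.coe_add, ha, hb]

theorem rid_rTensor {K : Type*} [AddCommGroup K] [Module S K] (d : Ideal S) (ℓ : d →ₗ[S] K)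
    (w : d ⊗[S] S) :
    TensorProduct.rid S K (ℓ.rTensor S w) = ℓ (TensorProduct.rid S d w) := by
  induction w using TensorProduct.induction_on with
  | zero => simp
  | tmul a s => simp
  | add a b ha hb => simp only [map_add, ha, hb]

/-- an endomorphism of a free module which is injective on all fibres is injective modulo every
ideal -/
theorem mem_smul_top_of_map_mem {ι : Type*} (b : Module.Basis ι S M) (u : M →ₗ[S] M)
    (hu : ∀ (K : Type u) [Field K] [Algebra S K], Function.Injective (u.lTensor K))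
    (J : Ideal S) (x : M) (hx : u x ∈ J • (⊤ : Submodule S M)) :
    x ∈ J • (⊤ : Submodule S M) := by
  classical
  by_contra hxJ
  haveI : Module.Free S M := Module.Free.of_basis b
  set c : Ideal S := Ideal.span (((b.repr x).support.image (b.repr x) : Finset S) : Set S) with hc
  have hcfg : c.FG := ⟨_, rfl⟩
  have hmem : ∀ i, b.repr x i ∈ c := by
    intro i
    by_cases hi : i ∈ (b.repr x).support
    · exact Ideal.subset_span (Finset.mem_coe.mpr (Finset.mem_image_of_mem _ hi))
    · rw [Finsupp.notMem_support_iff.mp hi]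
      exact zero_mem _
  have hsum : ∀ I : Ideal S, (∀ i, b.repr x i ∈ I) → x ∈ I • (⊤ : Submodule S M) := by
    intro I hI
    rw [← b.linearCombination_repr x, Finsupp.linearCombination_apply, Finsupp.sum]
    exact Submodule.sum_mem _ (fun i _ => Submodule.smul_mem_smul (hI i) Submodule.mem_top)
  have hcJ : ¬ c ≤ J := fun hle => hxJ (hsum J (fun i => hle (hmem i)))
  obtain ⟨K, _, _, ℓ, hℓJ, y₀, hy₀⟩ := exists_functional J c hcfg hcJ
  have hJd : J ≤ J ⊔ c := le_sup_left
  have hcd : c ≤ J ⊔ c := le_sup_right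
  have hxd : x ∈ (J ⊔ c) • (⊤ : Submodule S M) := hsum (J ⊔ c) (fun i => hcd (hmem i))
  obtain ⟨xt, hxt⟩ := exists_lid_rTensor_subtype_eq (J ⊔ c) x hxd
  obtain ⟨yt, hyt⟩ := exists_lid_rTensor_subtype_eq J (u x) hx
  have key1 : u.lTensor ↥(J ⊔ c) xt = (Submodule.inclusion hJd).rTensor M yt := by
    apply Module.Flat.rTensor_preserves_injective_linearMap (M := M) (J ⊔ c).subtype
      (J ⊔ c).subtype_injective
    apply (TensorProduct.lid S M).injective
    have h1 : (J ⊔ c).subtype.rTensor M (u.lTensor ↥(J ⊔ c) xt) =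
        u.lTensor S ((J ⊔ c).subtype.rTensor M xt) := by
      rw [← LinearMap.comp_apply, ← LinearMap.comp_apply, LinearMap.rTensor_comp_lTensor,
        LinearMap.lTensor_comp_rTensor]
    rw [h1, ← lid_lTensor, hxt, ← LinearMap.comp_apply, ← LinearMap.rTensor_comp,
      Submodule.subtype_comp_inclusion, hyt]
  have hℓinc : ℓ ∘ₗ Submodule.inclusion hJd = 0 := by
    ext j
    exact hℓJ (Submodule.inclusion hJd j) j.2
  have key2 : ℓ.rTensor M xt = 0 := by
    apply hu K
    rw [map_zero]
    have h1 : (u.lTensor K) (ℓ.rTensor M xt) = ℓ.rTensor M (u.lTensor ↥(J ⊔ c) xt) := by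
      rw [← LinearMap.comp_apply, ← LinearMap.comp_apply, LinearMap.lTensor_comp_rTensor,
        LinearMap.rTensor_comp_lTensor]
    rw [h1, key1, ← LinearMap.comp_apply, ← LinearMap.rTensor_comp, hℓinc,
      LinearMap.rTensor_zero, LinearMap.zero_apply]
  have key3 : ∀ i, ℓ ⟨b.repr x i, hcd (hmem i)⟩ = 0 := by
    intro i
    have h1 : (b.coord i).lTensor K (ℓ.rTensor M xt) = 0 := by rw [key2, map_zero]
    rw [← LinearMap.comp_apply, LinearMap.lTensor_comp_rTensor,
      ← LinearMap.rTensor_comp_lTensor, LinearMap.comp_apply] at h1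
    have h2 := congrArg (TensorProduct.rid S K) h1
    rw [rid_rTensor, map_zero] at h2
    have h3 : (⟨b.repr x i, hcd (hmem i)⟩ : ↥(J ⊔ c)) =
        TensorProduct.rid S ↥(J ⊔ c) ((b.coord i).lTensor ↥(J ⊔ c) xt) := by
      apply Subtype.ext
      rw [coe_rid_lTensor, hxt]
      rfl
    rw [h3]
    exact h2
  -- `ℓ` vanishes on `J ⊔ c`
  have hker : J ⊔ c ≤ Submodule.map (J ⊔ c).subtype (LinearMap.ker ℓ) := by
    refine sup_le ?_ ?_
    · intro j hj
      exact ⟨⟨j, hJd hj⟩, hℓJ _ hj, rfl⟩
    · refine Ideal.span_le.mpr ?_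
      intro y hy
      obtain ⟨i, _, rfl⟩ := Finset.mem_image.mp (Finset.mem_coe.mp hy)
      exact ⟨⟨b.repr x i, hcd (hmem i)⟩, key3 i, rfl⟩
  obtain ⟨y', hy', hy'e⟩ := hker y₀.2
  have : y' = y₀ := Subtype.ext hy'e
  rw [this] at hy'
  exact hy₀ hy'

end AL

section Tensor

variable {k : Type u} [Field k]

/-- coordinates with respect to the base-changed basis are natural in the ring of scalars -/
theorem basis_repr_map {A : Type*} [CommRing A] [Algebra k A] {S S' : Type*} [CommRing S]
    [Algebra k S] [CommRing S'] [Algebra k S'] {ι : Type*} (e : Module.Basis ι k A)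
    (φ : S →ₐ[k] S') (x : S ⊗[k] A) (i : ι) :
    (Algebra.TensorProduct.basis S' e).repr (Algebra.TensorProduct.map φ (AlgHom.id k A) x) i =
      φ ((Algebra.TensorProduct.basis S e).repr x i) := by
  induction x using TensorProduct.induction_on with
  | zero => simp
  | tmul s a =>
    rw [Algebra.TensorProduct.map_tmul, Algebra.TensorProduct.basis_repr_tmul,
      Algebra.TensorProduct.basis_repr_tmul]
    simp [AlgHom.commutes]
  | add a b ha hb => simp only [map_add, Finsupp.add_apply, ha, hb]

variable [IsAlgClosed k] (A : Type u) [CommRing A] [Algebra k A] [IsDomain A]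
  (S : Type u) [CommRing S] [Algebra k S]

/-- multiplication by an element with a unit coefficient is injective modulo every ideal of the
ring of scalars -/
theorem main_tensor {ι : Type*} (e : Module.Basis ι k A) (f : S ⊗[k] A) (i₀ : ι)
    (hi₀ : IsUnit ((Algebra.TensorProduct.basis S e).repr f i₀))
    (J : Ideal S) (t : S ⊗[k] A)
    (ht : LinearMap.mulLeft S f t ∈ J • (⊤ : Submodule S (S ⊗[k] A))) :
    t ∈ J • (⊤ : Submodule S (S ⊗[k] A)) := by
  refine mem_smul_top_of_map_mem (Algebra.TensorProduct.basis S e) (LinearMap.mulLeft S f) ?_ J t ht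
  intro K _ _
  letI : Algebra k K := Algebra.compHom K (algebraMap k S)
  haveI : IsScalarTower k S K := IsScalarTower.of_algebraMap_eq (fun _ => rfl)
  haveI : IsDomain (K ⊗[k] A) := Groth.Agent.Helper8.isDomain_tensor_of_isAlgClosed K A
  let E : K ⊗[S] (S ⊗[k] A) ≃ₐ[K] K ⊗[k] A := Algebra.TensorProduct.cancelBaseChange k S K K A
  haveI : IsDomain (K ⊗[S] (S ⊗[k] A)) := E.toMulEquiv.isDomain (K ⊗[k] A)
  have hmul : ∀ w : K ⊗[S] (S ⊗[k] A),
      (LinearMap.mulLeft S f).lTensor K w = ((1 : K) ⊗ₜ[S] f) * w := by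
    intro w
    induction w using TensorProduct.induction_on with
    | zero => simp
    | tmul a y =>
      rw [LinearMap.lTensor_tmul, LinearMap.mulLeft_apply, Algebra.TensorProduct.tmul_mul_tmul,
        one_mul]
    | add a b ha hb => rw [map_add, ha, hb, mul_add]
  have hne : ((1 : K) ⊗ₜ[S] f) ≠ 0 := by
    intro h0
    have h1 := congrArg (fun w => (Algebra.TensorProduct.basis K
      (Algebra.TensorProduct.basis S e)).repr w i₀) h0
    simp only [Algebra.TensorProduct.basis_repr_tmul, map_zero, Finsupp.zero_apply, one_smul,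
      Finsupp.mapRange_apply] at h1
    exact (hi₀.map (algebraMap S K)).ne_zero h1
  rw [injective_iff_map_eq_zero]
  intro w hw
  rw [hmul] at hw
  exact (mul_eq_zero.mp hw).resolve_left hne

end Tensor

end Groth.Agent.Helper7.UnitCoef
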